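import Groth.Agent.SpinCurv.PowNode
import Groth.Agent.EGA43Valuative.DominatingDVR

/-!
`T[[x, y]]/(xy - t)` is a domain for a complete Noetherian local domain `T` and `t ≠ 0` in the
maximal ideal, and contains the polynomial node ring.
-/

set_option autoImplicit false

universe u

open IsLocalRing
open Groth.SpinCurv

namespace Groth.NodeFibral

variable {T : Type u} [CommRing T]

/-- The index on the axes of degree `d`. -/
noncomputable def axis (d : ℤ) : Fin 2 →₀ ℕ := i2 d.toNat (-d).toNat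

theorem eq_axis {m : Fin 2 →₀ ℕ} (h : m 0 = 0 ∨ m 1 = 0) : m = axis ((m 0 : ℤ) - m 1) := by
  refine (eq_i2 m).trans ?_
  show i2 _ _ = _
  unfold axis
  congr 1 <;> omega

section complete

variable [IsLocalRing T] [IsAdicComplete (maximalIdeal T) T] {t : T} (ht : t ∈ maximalIdeal T)

theorem pcoord_of_axis {F : MvPowerSeries (Fin 2) T}
    (hF : ∀ m : Fin 2 →₀ ℕ, m 0 ≠ 0 → m 1 ≠ 0 → MvPowerSeries.coeff m F = 0) (d : ℤ) :
    pcoord ht F d = MvPowerSeries.coeff (axis d) F := by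
  rw [pcoord, adicSum_single ht _ fun l => hF _ (by simp) (by simp)]
  simp [axis]

/-- The representative supported on the axes. -/
noncomputable def axisRep (f : MvPowerSeries (Fin 2) T) : MvPowerSeries (Fin 2) T := fun m =>
  if m 0 = 0 ∨ m 1 = 0 then pcoord ht f ((m 0 : ℤ) - m 1) else 0

theorem axisRep_supp (f : MvPowerSeries (Fin 2) T) (m : Fin 2 →₀ ℕ) (h0 : m 0 ≠ 0) (h1 : m 1 ≠ 0) :
    MvPowerSeries.coeff m (axisRep ht f) = 0 := by
  rw [MvPowerSeries.coeff_apply]
  show (if _ then _ else _) = _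
  rw [if_neg (by tauto)]

theorem pcoord_axisRep (f : MvPowerSeries (Fin 2) T) (d : ℤ) :
    pcoord ht (axisRep ht f) d = pcoord ht f d := by
  rw [pcoord_of_axis ht (axisRep_supp ht f), MvPowerSeries.coeff_apply]
  show (if _ then _ else _) = _
  rw [if_pos (by simp [axis]; omega), show ((axis d) 0 : ℤ) - (axis d) 1 = d by simp [axis]]

theorem mk_axisRep (f : MvPowerSeries (Fin 2) T) :
    (Ideal.Quotient.mk _ (axisRep ht f) : _root_.SpinCurv.NodeRing T t) = Ideal.Quotient.mk _ f :=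
  (mk_eq_mk_iff ht _ _).2 (pcoord_axisRep ht f)

end complete

/-- Among the non-zero coefficients there is one of least weight, and then least degree. -/
theorem exists_lead (F : MvPowerSeries (Fin 2) T) (hF : F ≠ 0) (v : T → ℕ) (n : ℕ) (hn : 1 ≤ n) :
    ∃ a : Fin 2 →₀ ℕ, MvPowerSeries.coeff a F ≠ 0 ∧ ∀ b : Fin 2 →₀ ℕ, MvPowerSeries.coeff b F ≠ 0 →
      2 * v (MvPowerSeries.coeff a F) + n * (a 0 + a 1) ≤
        2 * v (MvPowerSeries.coeff b F) + n * (b 0 + b 1) ∧
      (2 * v (MvPowerSeries.coeff b F) + n * (b 0 + b 1) =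
          2 * v (MvPowerSeries.coeff a F) + n * (a 0 + a 1) →
        (a 0 : ℤ) - a 1 ≤ (b 0 : ℤ) - b 1) := by
  classical
  let W : (Fin 2 →₀ ℕ) → ℕ := fun m => 2 * v (MvPowerSeries.coeff m F) + n * (m 0 + m 1)
  have h1 : ∃ k, ∃ m, MvPowerSeries.coeff m F ≠ 0 ∧ W m = k := by
    obtain ⟨m, hm⟩ : ∃ m, MvPowerSeries.coeff m F ≠ 0 := by
      by_contra hc
      push Not at hc
      exact hF (MvPowerSeries.ext fun m => by simpa using hc m)
    exact ⟨_, m, hm, rfl⟩
  have h2 : ∃ k, ∃ m : Fin 2 →₀ ℕ,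
      MvPowerSeries.coeff m F ≠ 0 ∧ W m = Nat.find h1 ∧ m 0 + W m - m 1 = k := by
    obtain ⟨m, hm, hW⟩ := Nat.find_spec h1
    exact ⟨_, m, hm, hW, rfl⟩
  obtain ⟨a, ha, hWa, hda⟩ := Nat.find_spec h2
  have hle : ∀ m : Fin 2 →₀ ℕ, m 1 ≤ W m := fun m =>
    le_trans (le_trans (Nat.le_mul_of_pos_left _ hn) (Nat.mul_le_mul_left n (Nat.le_add_left _ (m 0))))
      (Nat.le_add_left _ _)
  refine ⟨a, ha, fun b hb => ⟨?_, fun hWb => ?_⟩⟩
  · show W a ≤ W b
    rw [hWa]
    exact Nat.find_min' h1 ⟨b, hb, rfl⟩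
  · have hWb' : W b = W a := hWb
    have := Nat.find_min' h2 ⟨b, hb, hWb'.trans hWa, rfl⟩
    have := hle a
    have := hle b
    omega

section domain

variable [IsLocalRing T] [IsAdicComplete (maximalIdeal T) T] {t : T} (ht : t ∈ maximalIdeal T)

include ht in
/-- Multiplicativity of the weight: a product of non-zero axis representatives is non-zero. -/
theorem exists_pcoord_mul_ne_zero {V : Type u} [CommRing V] [IsDomain V] [IsDiscreteValuationRing V]
    (ψ : T →+* V) (hψ : Function.Injective ψ) [IsLocalHom ψ] (ht0 : t ≠ 0)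
    {F G : MvPowerSeries (Fin 2) T} (hF0 : F ≠ 0) (hG0 : G ≠ 0)
    (hF : ∀ m : Fin 2 →₀ ℕ, m 0 ≠ 0 → m 1 ≠ 0 → MvPowerSeries.coeff m F = 0)
    (hG : ∀ m : Fin 2 →₀ ℕ, m 0 ≠ 0 → m 1 ≠ 0 → MvPowerSeries.coeff m G = 0) :
    ∃ d, pcoord ht (F * G) d ≠ 0 := by
  classical
  obtain ⟨ϖ, hϖ⟩ := IsDiscreteValuationRing.exists_irreducible V
  let A : T → ℕ∞ := fun a => IsDiscreteValuationRing.addVal V (ψ a)
  let v : T → ℕ := fun a => (A a).toNat
  have hv : ∀ a, a ≠ 0 → A a = v a := fun a ha =>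
    (ENat.coe_toNat fun h => ha (hψ (by
      rw [map_zero]; exact IsDiscreteValuationRing.addVal_eq_top_iff.1 h))).symm
  have hA0 : A 0 = ⊤ := by simp [A]
  have hAmul : ∀ a b, A (a * b) = A a + A b := fun a b => by simp [A]
  have hApow : ∀ a (k : ℕ), A (a ^ k) = k • A a := fun a k => by simp [A]
  have hAadd : ∀ a b, min (A a) (A b) ≤ A (a + b) := fun a b => by
    simp only [A, map_add]; exact IsDiscreteValuationRing.addVal_add
  have hAsum : ∀ {ι : Type} (s : Finset ι) (f : ι → T) (g : ℕ∞), (∀ i ∈ s, g ≤ A (f i)) →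
      g ≤ A (∑ i ∈ s, f i) := fun s f g h => by
    simp only [A, map_sum]
    exact (IsDiscreteValuationRing.addVal V).map_le_sum h
  have hAm : ∀ (N : ℕ) (a : T), a ∈ maximalIdeal T ^ N → (N : ℕ∞) ≤ A a := by
    intro N a ha
    have h1 : ψ a ∈ maximalIdeal V ^ N := by
      have h2 := Ideal.mem_map_of_mem ψ ha
      rw [Ideal.map_pow] at h2
      refine Ideal.pow_right_mono (Ideal.map_le_iff_le_comap.2 fun b hb => ?_) N h2
      rw [Ideal.mem_comap, mem_maximalIdeal, mem_nonunits_iff]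
      exact fun hu => hb (isUnit_of_map_unit ψ b hu)
    rw [hϖ.maximalIdeal_eq, Ideal.span_singleton_pow, Ideal.mem_span_singleton,
      ← IsDiscreteValuationRing.addVal_le_iff_dvd, IsDiscreteValuationRing.addVal_pow,
      IsDiscreteValuationRing.addVal_uniformizer hϖ] at h1
    simpa [A] using h1
  have hvt : 1 ≤ v t := by
    have h1 := hAm 1 t (by rwa [pow_one])
    rw [hv t ht0] at h1
    exact_mod_cast h1
  obtain ⟨a, ha, hla⟩ := exists_lead F hF0 v (v t) hvt
  obtain ⟨b, hb, hlb⟩ := exists_lead G hG0 v (v t) hvt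
  have haxF : ∀ m, MvPowerSeries.coeff m F ≠ 0 → m 0 = 0 ∨ m 1 = 0 := fun m hm => by
    by_contra hc; push Not at hc; exact hm (hF m hc.1 hc.2)
  refine ⟨((a 0 + b 0 : ℕ) : ℤ) - (a 1 + b 1 : ℕ), fun hzero => ?_⟩
  set d : ℤ := ((a 0 + b 0 : ℕ) : ℤ) - (a 1 + b 1 : ℕ) with hd
  set l₀ : ℕ := min (a 0 + b 0) (a 1 + b 1) with hl₀
  let base : ℕ → Fin 2 →₀ ℕ := fun l => i2 (d.toNat + l) ((-d).toNat + l)
  have hM : base l₀ = a + b := by
    refine ((eq_i2 (a + b)).trans ?_).symm
    show i2 _ _ = _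
    simp only [base, Finsupp.add_apply]
    congr 1 <;> omega
  set v0 : ℕ := v (MvPowerSeries.coeff a F) + v (MvPowerSeries.coeff b G) + l₀ * v t with hv0
  let N : ℕ := v0 + l₀ + 1
  let term : (Σ _ : ℕ, (Fin 2 →₀ ℕ) × (Fin 2 →₀ ℕ)) → T := fun p =>
    MvPowerSeries.coeff p.2.1 F * MvPowerSeries.coeff p.2.2 G * t ^ p.1
  let idx : Finset (Σ _ : ℕ, (Fin 2 →₀ ℕ) × (Fin 2 →₀ ℕ)) :=
    (Finset.range N).sigma fun l => Finset.HasAntidiagonal.antidiagonal (base l)
  have hsum : ∑ l ∈ Finset.range N, MvPowerSeries.coeff (base l) (F * G) * t ^ l =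
      ∑ p ∈ idx, term p := by
    simp only [idx, term, Finset.sum_sigma, MvPowerSeries.coeff_mul, Finset.sum_mul]
  have hS : (N : ℕ∞) ≤ A (∑ p ∈ idx, term p) := by
    have h1 := adicSum_spec ht (fun l => MvPowerSeries.coeff (base l) (F * G)) N
    rw [show adicSum ht (fun l => MvPowerSeries.coeff (base l) (F * G)) = 0 from hzero, zero_sub,
      neg_mem_iff, hsum] at h1
    exact hAm N _ h1
  let p₀ : Σ _ : ℕ, (Fin 2 →₀ ℕ) × (Fin 2 →₀ ℕ) := ⟨l₀, (a, b)⟩
  have hp₀ : p₀ ∈ idx := by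
    simp only [idx, p₀, Finset.mem_sigma, Finset.mem_range, Finset.HasAntidiagonal.mem_antidiagonal]
    exact ⟨by omega, hM.symm⟩
  have hmain : A (term p₀) = (v0 : ℕ) := by
    simp only [term, p₀, hAmul, hApow]
    rw [hv _ ha, hv _ hb, hv _ ht0, hv0, nsmul_eq_mul]
    push_cast
    ring
  have hrest : ((v0 + 1 : ℕ) : ℕ∞) ≤ A (∑ p ∈ idx.erase p₀, term p) := by
    refine hAsum _ _ _ fun p hp => ?_
    obtain ⟨hne, hmem⟩ := Finset.mem_erase.1 hp
    obtain ⟨l, p1, p2⟩ := p
    simp only [idx, Finset.mem_sigma, Finset.mem_range, Finset.HasAntidiagonal.mem_antidiagonal] at hmem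
    by_cases h1 : MvPowerSeries.coeff p1 F = 0
    · simp [term, h1, hA0]
    by_cases h2 : MvPowerSeries.coeff p2 G = 0
    · simp [term, h2, hA0]
    simp only [term, hAmul, hApow]
    rw [hv _ h1, hv _ h2, hv _ ht0, nsmul_eq_mul]
    norm_cast
    have e0 : p1 0 + p2 0 = d.toNat + l := by
      have := DFunLike.congr_fun hmem.2 0; simpa [base] using this
    have e1 : p1 1 + p2 1 = (-d).toNat + l := by
      have := DFunLike.congr_fun hmem.2 1; simpa [base] using this
    have f0 : a 0 + b 0 = d.toNat + l₀ := by omega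
    have f1 : a 1 + b 1 = (-d).toNat + l₀ := by omega
    obtain ⟨hWa, hEa⟩ := hla p1 h1
    obtain ⟨hWb, hEb⟩ := hlb p2 h2
    have g1 : v t * (p1 0 + p1 1) + v t * (p2 0 + p2 1) =
        v t * (d.toNat + (-d).toNat) + 2 * (l * v t) := by
      rw [← mul_add, show p1 0 + p1 1 + (p2 0 + p2 1) = d.toNat + (-d).toNat + 2 * l by omega]; ring
    have g2 : v t * (a 0 + a 1) + v t * (b 0 + b 1) =
        v t * (d.toNat + (-d).toNat) + 2 * (l₀ * v t) := by
      rw [← mul_add, show a 0 + a 1 + (b 0 + b 1) = d.toNat + (-d).toNat + 2 * l₀ by omega]; ring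
    show v0 + 1 ≤ _
    by_contra hlt
    have hEa' := hEa (by omega)
    have hEb' := hEb (by omega)
    refine hne ?_
    have hpa : p1 = a := by
      rw [eq_axis (haxF p1 h1), eq_axis (haxF a ha),
        show (p1 0 : ℤ) - p1 1 = (a 0 : ℤ) - a 1 by omega]
    subst hpa
    have hpb : p2 = b := by
      have haxG : ∀ m, MvPowerSeries.coeff m G ≠ 0 → m 0 = 0 ∨ m 1 = 0 := fun m hm => by
        by_contra hc; push Not at hc; exact hm (hG m hc.1 hc.2)
      rw [eq_axis (haxG p2 h2), eq_axis (haxG b hb),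
        show (p2 0 : ℤ) - p2 1 = (b 0 : ℤ) - b 1 by omega]
    have hll : l = l₀ := by
      have := DFunLike.congr_fun hpb 0
      omega
    subst hll
    subst hpb
    rfl
  rw [← Finset.add_sum_erase idx term hp₀] at hS
  have key : ((v0 + 1 : ℕ) : ℕ∞) ≤ A (term p₀) := by
    have h1 := hAadd (term p₀ + ∑ p ∈ idx.erase p₀, term p) (-(∑ p ∈ idx.erase p₀, term p))
    rw [add_neg_cancel_right] at h1
    refine le_trans (le_min (le_trans ?_ hS) ?_) h1
    · exact_mod_cast (show v0 + 1 ≤ N by omega)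
    · have hneg : ∀ x, A (-x) = A x := fun x => by
        simp only [A, map_neg, AddValuation.map_neg]
      rw [hneg]; exact hrest
  rw [hmain] at key
  exact absurd (by exact_mod_cast key : v0 + 1 ≤ v0) (by omega)

variable [IsDomain T] [IsNoetherianRing T]

include ht in
theorem isDomain_nodeRing (ht0 : t ≠ 0) : IsDomain (_root_.SpinCurv.NodeRing T t) := by
  have hnf : ¬ IsField T := fun h =>
    ht0 (by simpa [(isField_iff_maximalIdeal_eq.1 h)] using ht)
  obtain ⟨V, _, _, _, ψ, hψ, hψl⟩ := Groth.EGA43Val.exists_dvr_dominating T hnf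
  have key : ∀ f : MvPowerSeries (Fin 2) T,
      (Ideal.Quotient.mk _ f : _root_.SpinCurv.NodeRing T t) ≠ 0 → axisRep ht f ≠ 0 := by
    intro f hf h0
    apply hf
    rw [← mk_axisRep ht f, h0, map_zero]
  have hnt : Nontrivial (_root_.SpinCurv.NodeRing T t) := by
    refine ⟨Ideal.Quotient.mk _ 1, 0, fun h => ?_⟩
    rw [← map_zero (Ideal.Quotient.mk _), mk_eq_mk_iff ht] at h
    have := h 0
    rw [pcoord_of_axis ht (fun m hm _ => by
        classical
        rw [MvPowerSeries.coeff_one, if_neg]; rintro rfl; simp at hm),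
      pcoord_of_axis ht (fun m _ _ => by simp)] at this
    simp [axis, i2] at this
  have : NoZeroDivisors (_root_.SpinCurv.NodeRing T t) := ⟨fun {x y} h => by
    by_contra hc
    push Not at hc
    obtain ⟨f, rfl⟩ := Ideal.Quotient.mk_surjective x
    obtain ⟨g, rfl⟩ := Ideal.Quotient.mk_surjective y
    obtain ⟨d, hd⟩ := exists_pcoord_mul_ne_zero ht ψ hψ ht0 (key f hc.1) (key g hc.2)
      (axisRep_supp ht f) (axisRep_supp ht g)
    apply hd
    rw [← mk_axisRep ht f, ← mk_axisRep ht g, ← map_mul, ← map_zero (Ideal.Quotient.mk _),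
      mk_eq_mk_iff ht] at h
    rw [h d, pcoord_of_axis ht (fun m _ _ => by simp)]
    simp⟩
  exact NoZeroDivisors.to_isDomain _

omit [IsDomain T] [IsNoetherianRing T] in
include ht in
/-- The polynomial node ring injects into the power series node ring. -/
theorem mem_span_of_coe_mem {f : MvPolynomial (Fin 2) T}
    (hf : (f : MvPowerSeries (Fin 2) T) ∈
      Ideal.span {(MvPowerSeries.X 0 * MvPowerSeries.X 1 - MvPowerSeries.C t : MvPowerSeries (Fin 2) T)}) :
    f ∈ Ideal.span {(MvPolynomial.X 0 * MvPolynomial.X 1 - MvPolynomial.C t : MvPolynomial (Fin 2) T)} := by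
  classical
  set I := Ideal.span {(MvPolynomial.X 0 * MvPolynomial.X 1 - MvPolynomial.C t : MvPolynomial (Fin 2) T)}
    with hI
  let k : (Fin 2 →₀ ℕ) → ℕ := fun m => min (m 0) (m 1)
  let g : MvPolynomial (Fin 2) T := ∑ m ∈ f.support,
    MvPolynomial.monomial (i2 (m 0 - k m) (m 1 - k m)) (MvPolynomial.coeff m f * t ^ k m)
  have hfg : f - g ∈ I := by
    rw [show f - g = (∑ m ∈ f.support, MvPolynomial.monomial m (MvPolynomial.coeff m f)) - g by
      rw [← f.as_sum]]
    simp only [g, ← Finset.sum_sub_distrib]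
    refine Ideal.sum_mem _ fun m _ => ?_
    have e : m = i2 (m 0 - k m) (m 1 - k m) + i2 (k m) (k m) := by
      ext i; fin_cases i <;> simp [k]
    have e2 : ∀ c : T, ∀ p q : ℕ, MvPolynomial.monomial (i2 p q) c =
        MvPolynomial.C c * (MvPolynomial.X 0 ^ p * MvPolynomial.X 1 ^ q) := fun c p q => by
      rw [i2, MvPolynomial.X_pow_eq_monomial, MvPolynomial.X_pow_eq_monomial,
        MvPolynomial.monomial_mul, MvPolynomial.C_mul_monomial, one_mul, mul_one]
    have e3 : MvPolynomial.monomial m (MvPolynomial.coeff m f) =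
        MvPolynomial.monomial (i2 (m 0 - k m) (m 1 - k m)) (MvPolynomial.coeff m f) *
          MvPolynomial.monomial (i2 (k m) (k m)) 1 := by
      rw [MvPolynomial.monomial_mul, ← e, mul_one]
    rw [e3, e2 (1 : T), MvPolynomial.C_1, one_mul, ← mul_pow, mul_comm (MvPolynomial.coeff m f) (t ^ k m),
      ← MvPolynomial.C_mul_monomial, map_pow,
      mul_comm (MvPolynomial.C t ^ k m), ← mul_sub]
    refine Ideal.mul_mem_left _ _ (Ideal.mem_span_singleton.2 ?_)
    exact sub_dvd_pow_sub_pow _ _ _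
  have hax : ∀ m : Fin 2 →₀ ℕ, m 0 ≠ 0 → m 1 ≠ 0 → MvPolynomial.coeff m g = 0 := by
    intro m h0 h1
    simp only [g, MvPolynomial.coeff_sum]
    refine Finset.sum_eq_zero fun m' _ => ?_
    rw [MvPolynomial.coeff_monomial, if_neg]
    intro h
    subst h
    simp only [i2_zero, i2_one, k] at h0 h1
    omega
  have hg : g = 0 := by
    ext m
    rw [MvPolynomial.coeff_zero]
    by_cases hm : m 0 = 0 ∨ m 1 = 0
    swap
    · push Not at hm; exact hax m hm.1 hm.2
    have hmem : (g : MvPowerSeries (Fin 2) T) ∈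
        Ideal.span {(MvPowerSeries.X 0 * MvPowerSeries.X 1 - MvPowerSeries.C t : MvPowerSeries (Fin 2) T)} := by
      obtain ⟨c, hc⟩ := Ideal.mem_span_singleton.1 hfg
      have h1 : (f : MvPowerSeries (Fin 2) T) - (g : MvPowerSeries (Fin 2) T) ∈
          Ideal.span {(MvPowerSeries.X 0 * MvPowerSeries.X 1 - MvPowerSeries.C t : MvPowerSeries (Fin 2) T)} := by
        have := congrArg (MvPolynomial.coeToMvPowerSeries.ringHom (R := T) (σ := Fin 2)) hc
        simp only [map_sub, map_mul, MvPolynomial.coeToMvPowerSeries.ringHom_apply,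
          MvPolynomial.coe_X, MvPolynomial.coe_C] at this
        rw [this]
        exact Ideal.mul_mem_right _ _ (Ideal.mem_span_singleton_self _)
      simpa using sub_mem hf h1
    have h2 := (mk_eq_mk_iff ht (g : MvPowerSeries (Fin 2) T) 0).1
      (by rw [map_zero]; exact Ideal.Quotient.eq_zero_iff_mem.2 hmem) ((m 0 : ℤ) - m 1)
    rw [pcoord_of_axis ht (fun m h0 h1 => by rw [MvPolynomial.coeff_coe]; exact hax m h0 h1),
      pcoord_of_axis ht (fun m _ _ => by simp), ← eq_axis hm, MvPolynomial.coeff_coe] at h2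
    simpa using h2
  simpa [hg] using hfg

end domain

end Groth.NodeFibral
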