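import Groth.Agent.NodeFibral.Domain
import Groth.Agent.PicAux.RegularUFD
import Groth.Agent.LocDual.CompleteQuotient
import Groth.Agent.Ega41Flat.PowerSeries
import Groth.Agent.Calg1.Misc
import Groth.Agent.S6347
import Groth.Agent.ParaFormal.PowerSeriesCase

/-!
`R[[x, y]]/(xy - Δ)` is factorial for a complete regular local ring `R` and a prime `Δ`.
Off the prime `η = (m, y)` every element is, by Weierstrass, a product of primes coming from the
factorial ring `R[[y]][x]/(yx - Δ)`; at `η` the ring is regular. Nagata's criterion concludes.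
-/

set_option autoImplicit false

universe u

open IsLocalRing

namespace Groth.NodeFibral

/-- In a domain, a polynomial vanishing at `c/w` is divisible by `wX - c`. -/
theorem dvd_of_eval_eq_zero {S : Type u} [CommRing S] [IsDomain S] {w c : S} (hc : Prime c)
    (hcw : ¬ c ∣ w) {L : Type u} [CommRing L] [IsDomain L] [Algebra S L] [IsLocalization.Away w L]
    (hinj : Function.Injective (algebraMap S L)) {t : L} (ht : t * algebraMap S L w = algebraMap S L c) :
    ∀ f : Polynomial S, Polynomial.aeval t f = 0 → (Polynomial.C w * Polynomial.X - Polynomial.C c) ∣ f := by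
  intro f
  induction hn : f.natDegree using Nat.strong_induction_on generalizing f with
  | _ n ih =>
  intro hf
  have hw : IsUnit (algebraMap S L w) := IsLocalization.Away.algebraMap_isUnit w
  have hsplit := Polynomial.X_mul_divX_add f
  have hf' : t * Polynomial.aeval t f.divX + algebraMap S L (f.coeff 0) = 0 := by
    have h1 := congrArg (Polynomial.aeval t) hsplit
    rw [map_add, map_mul, Polynomial.aeval_X, Polynomial.aeval_C, hf] at h1
    exact h1
  obtain ⟨⟨z, s⟩, hz⟩ := IsLocalization.surj (Submonoid.powers w) (Polynomial.aeval t f.divX)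
  obtain ⟨m, hm⟩ := s.2
  simp only at hm hz
  rw [← hm] at hz
  have hdvd : c ∣ f.coeff 0 := by
    have h1 : algebraMap S L (f.coeff 0 * w ^ m * w + c * z) = 0 := by
      simp only [map_add, map_mul, ← hz, ← ht]
      linear_combination (algebraMap S L (w ^ m) * algebraMap S L w) * hf'
    have h2 : f.coeff 0 * w ^ m * w + c * z = 0 := hinj (by rw [h1, map_zero])
    have h3 : c ∣ f.coeff 0 * (w ^ (m + 1)) := ⟨-z, by linear_combination h2⟩
    exact (hc.dvd_or_dvd h3).resolve_right fun h => hcw (hc.dvd_of_dvd_pow h)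
  obtain ⟨a, ha⟩ := hdvd
  by_cases hd : f.natDegree = 0
  · rw [Polynomial.eq_C_of_natDegree_eq_zero hd] at hf ⊢
    rw [Polynomial.aeval_C] at hf
    rw [hinj (hf.trans (map_zero (algebraMap S L)).symm), map_zero]
    exact dvd_zero _
  have hg : Polynomial.aeval t (f.divX + Polynomial.C (a * w)) = 0 := by
    have hc0 : algebraMap S L c ≠ 0 := fun h => hc.ne_zero (hinj (h.trans (map_zero _).symm))
    have ht0 : t ≠ 0 := fun h => by
      rw [h, zero_mul] at ht
      exact hc0 ht.symm
    refine (mul_eq_zero.1 ?_).resolve_left ht0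
    rw [map_add, Polynomial.aeval_C, map_mul, mul_add]
    rw [ha, map_mul, ← ht] at hf'
    linear_combination hf'
  obtain ⟨g, hg'⟩ := ih (f.divX + Polynomial.C (a * w)).natDegree (by
    rw [← hn, Polynomial.natDegree_add_C, Polynomial.natDegree_divX_eq_natDegree_tsub_one]
    omega) _ rfl hg
  refine ⟨Polynomial.X * g - Polynomial.C a, ?_⟩
  rw [ha] at hsplit
  rw [map_mul] at hg' hsplit
  linear_combination -hsplit + Polynomial.X * hg'

section poly

variable {S : Type u} [CommRing S] [IsDomain S] {w c : S}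

/-- `S[X]/(wX - c) ⊆ S[1/w]`. -/
theorem ker_eval₂_away (hc : Prime c) (hcw : ¬ c ∣ w) :
    RingHom.ker (Polynomial.eval₂RingHom (algebraMap S (Localization.Away w))
      (IsLocalization.mk' _ c (⟨w, Submonoid.mem_powers _⟩ : Submonoid.powers w))) =
      Ideal.span {Polynomial.C w * Polynomial.X - Polynomial.C c} := by
  have hle : Submonoid.powers w ≤ nonZeroDivisors S :=
    powers_le_nonZeroDivisors_of_noZeroDivisors fun h => hcw (h ▸ dvd_zero c)
  haveI : IsDomain (Localization.Away w) := IsLocalization.isDomain_localization hle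
  refine le_antisymm (fun f hf => Ideal.mem_span_singleton.2 ?_) ?_
  · exact dvd_of_eval_eq_zero hc hcw (IsLocalization.injective _ hle)
      (IsLocalization.mk'_spec _ _ _) f hf
  · rw [Ideal.span_le, Set.singleton_subset_iff, SetLike.mem_coe, RingHom.mem_ker]
    simp only [map_sub, map_mul, Polynomial.coe_eval₂RingHom, Polynomial.eval₂_C, Polynomial.eval₂_X]
    rw [mul_comm, IsLocalization.mk'_spec, sub_self]

theorem isDomain_quot (hc : Prime c) (hcw : ¬ c ∣ w) :
    IsDomain (Polynomial S ⧸ Ideal.span {Polynomial.C w * Polynomial.X - Polynomial.C c}) := by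
  haveI : IsDomain (Localization.Away w) := IsLocalization.isDomain_localization
    (powers_le_nonZeroDivisors_of_noZeroDivisors fun h => hcw (h ▸ dvd_zero c))
  have : (Ideal.span {Polynomial.C w * Polynomial.X - Polynomial.C c}).IsPrime :=
    ker_eval₂_away hc hcw ▸ RingHom.ker_isPrime _
  exact Ideal.Quotient.isDomain _

theorem ufd_quot [IsNoetherianRing S] [UniqueFactorizationMonoid S] (hc : Prime c) (hcw : ¬ c ∣ w)
    (hwc : (Ideal.span {w, c}).IsPrime) :
    UniqueFactorizationMonoid (Polynomial S ⧸ Ideal.span {Polynomial.C w * Polynomial.X - Polynomial.C c}) := by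
  set q := Polynomial.C w * Polynomial.X - Polynomial.C c with hq
  haveI : IsDomain (Polynomial S ⧸ Ideal.span {q}) := isDomain_quot hc hcw
  have hw0 : w ≠ 0 := fun h => hcw (h ▸ dvd_zero c)
  have hle : Submonoid.powers w ≤ nonZeroDivisors S := powers_le_nonZeroDivisors_of_noZeroDivisors hw0
  let L := Localization.Away w
  let ψ : Polynomial S ⧸ Ideal.span {q} →+* L := Ideal.Quotient.lift _
    (Polynomial.eval₂RingHom (algebraMap S L)
      (IsLocalization.mk' _ c (⟨w, Submonoid.mem_powers _⟩ : Submonoid.powers w))) (fun a ha => by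
    rw [← RingHom.mem_ker, ker_eval₂_away hc hcw]; exact ha)
  have hψ : Function.Injective ψ := by
    rw [injective_iff_map_eq_zero]
    intro x hx
    obtain ⟨f, rfl⟩ := Ideal.Quotient.mk_surjective x
    rw [Ideal.Quotient.eq_zero_iff_mem, ← ker_eval₂_away hc hcw]
    exact hx
  have hψC : ∀ a : S, ψ (Ideal.Quotient.mk _ (Polynomial.C a)) = algebraMap S L a := fun a => by
    show Polynomial.eval₂ _ _ (Polynomial.C a) = _
    rw [Polynomial.eval₂_C]
  set p : Polynomial S ⧸ Ideal.span {q} := Ideal.Quotient.mk _ (Polynomial.C w) with hp'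
  have hp : Prime p := by
    haveI := hwc
    haveI : IsDomain (S ⧸ Ideal.span {w, c}) := Ideal.Quotient.isDomain _
    have hker : RingHom.ker (Polynomial.mapRingHom (Ideal.Quotient.mk (Ideal.span {w, c}))) =
        Ideal.span {Polynomial.C w, Polynomial.C c} := by
      rw [Polynomial.ker_mapRingHom, Ideal.mk_ker, Ideal.map_span, Set.image_pair]
    have he : (Ideal.span {p}).comap (Ideal.Quotient.mk (Ideal.span {q})) =
        Ideal.span {Polynomial.C w, Polynomial.C c} := by
      rw [hp', ← Set.image_singleton (f := Ideal.Quotient.mk (Ideal.span {q})), ← Ideal.map_span,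
        Ideal.comap_map_of_surjective _ Ideal.Quotient.mk_surjective, ← RingHom.ker_eq_comap_bot, Ideal.mk_ker,
        ← Ideal.span_union, Set.singleton_union]
      refine le_antisymm ?_ ?_ <;> rw [Ideal.span_le, Set.insert_subset_iff, Set.singleton_subset_iff]
      · refine ⟨Ideal.subset_span (by simp), ?_⟩
        exact sub_mem (Ideal.mul_mem_right _ _ (Ideal.subset_span (by simp))) (Ideal.subset_span (by simp))
      · refine ⟨Ideal.subset_span (by simp), ?_⟩
        have h1 : Polynomial.C w * Polynomial.X - q ∈ Ideal.span {Polynomial.C w, q} :=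
          sub_mem (Ideal.mul_mem_right _ _ (Ideal.subset_span (by simp))) (Ideal.subset_span (by simp))
        rw [hq, sub_sub_cancel] at h1
        exact h1
    have hprime : ((Ideal.span {p}).comap (Ideal.Quotient.mk (Ideal.span {q}))).IsPrime := by
      rw [he, ← hker]; exact RingHom.ker_isPrime _
    refine (Ideal.span_singleton_prime ?_).1 ?_
    · intro h
      have h1 := congrArg ψ h
      rw [hψC, map_zero] at h1
      exact hw0 (IsLocalization.injective L hle (h1.trans (map_zero _).symm))
    · haveI := hprime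
      rw [← Ideal.map_comap_of_surjective _ Ideal.Quotient.mk_surjective (Ideal.span {p})]
      exact Ideal.map_isPrime_of_surjective Ideal.Quotient.mk_surjective (Ideal.ker_le_comap _)
  letI : Algebra (Polynomial S ⧸ Ideal.span {q}) L := ψ.toAlgebra
  haveI : IsLocalization (Submonoid.closure ({p} : Set (Polynomial S ⧸ Ideal.span {q}))) L := by
    refine (isLocalization_iff _ _).2 ⟨fun y => ?_, fun z => ?_, @fun a b h => ⟨1, ?_⟩⟩
    · obtain ⟨n, hn⟩ := Submonoid.mem_closure_singleton.1 y.2
      show IsUnit (ψ y)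
      rw [← hn, map_pow, hψC]
      exact (IsLocalization.Away.algebraMap_isUnit w).pow n
    · obtain ⟨⟨a, s⟩, hz⟩ := IsLocalization.surj (Submonoid.powers w) z
      obtain ⟨m, hm⟩ := s.2
      refine ⟨⟨Ideal.Quotient.mk _ (Polynomial.C a), ⟨p ^ m, Submonoid.mem_closure_singleton.2 ⟨m, rfl⟩⟩⟩, ?_⟩
      show z * ψ (p ^ m) = ψ _
      rw [map_pow, hψC, hψC, ← map_pow]
      simp only at hm hz
      rw [hm, hz]
    · rw [hψ h]
  haveI := isNoetherianRing_of_surjective (Polynomial S) _ (Ideal.Quotient.mk (Ideal.span {q}))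
    Ideal.Quotient.mk_surjective
  haveI : IsDomain (Localization (Submonoid.closure ({p} : Set (Polynomial S ⧸ Ideal.span {q})))) :=
    IsLocalization.isDomain_localization (Submonoid.closure_le.2 (Set.singleton_subset_iff.2
      (mem_nonZeroDivisors_of_ne_zero hp.ne_zero)))
  refine Groth.Calg1.ufd_of_ufd_localization (fun a ha _ => WfDvdMonoid.exists_factors a ha) {p}
    (by simpa using hp) ?_
  exact MulEquiv.uniqueFactorizationMonoid
    (IsLocalization.algEquiv (Submonoid.closure ({p} : Set (Polynomial S ⧸ Ideal.span {q}))) L _).toMulEquiv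
    (UniqueFactorizationMonoid.of_isLocalization (Submonoid.powers w) L)

end poly

section

variable {R : Type u} [CommRing R] (Δ : R)

/-- The coefficient ring `R[[w]]`. -/
local notation "S" => MvPowerSeries (Fin 1) R

/-- `R[[x, y]] = R[[y]][[x]]`. -/
noncomputable abbrev ser : MvPowerSeries (Fin 2) R ≃+* PowerSeries S :=
  (MvPowerSeries.finSuccEquiv R 1).toRingEquiv

theorem ser_C (a : R) : ser (MvPowerSeries.C a) = PowerSeries.C (MvPowerSeries.C a) := by
  have h := (MvPowerSeries.finSuccEquiv R 1).commutes a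
  rw [show algebraMap R (MvPowerSeries (Fin (1 + 1)) R) a = MvPowerSeries.C a from rfl] at h
  exact h.trans (by rw [PowerSeries.algebraMap_apply, MvPowerSeries.algebraMap_apply, Algebra.algebraMap_self, RingHom.id_apply])

theorem ser_rel :
    ser (MvPowerSeries.X 0 * MvPowerSeries.X 1 - MvPowerSeries.C Δ) =
      PowerSeries.X * PowerSeries.C (MvPowerSeries.X 0) - PowerSeries.C (MvPowerSeries.C Δ : S) := by
  rw [map_sub, map_mul, ser_C]
  congr 2
  · exact MvPowerSeries.finSuccEquiv_X_zero
  · exact MvPowerSeries.finSuccEquiv_X_succ 0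

/-- The relation as a polynomial in `x` over `R[[y]]`. -/
noncomputable def relP : Polynomial S :=
  Polynomial.C (MvPowerSeries.X 0) * Polynomial.X - Polynomial.C (MvPowerSeries.C Δ)

theorem coe_relP : ((relP Δ : Polynomial S) : PowerSeries S) =
    ser (MvPowerSeries.X 0 * MvPowerSeries.X 1 - MvPowerSeries.C Δ) := by
  rw [ser_rel, relP, ← Polynomial.coeToPowerSeries.ringHom_apply, map_sub, map_mul]
  simp [mul_comm]

/-- The presentation of the node ring over `R[[y]][[x]]`. -/
noncomputable def pres : PowerSeries S →+* _root_.SpinCurv.NodeRing R Δ :=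
  (Ideal.Quotient.mk _).comp (ser (R := R)).symm.toRingHom

theorem pres_surjective : Function.Surjective (pres Δ) :=
  Ideal.Quotient.mk_surjective.comp (ser (R := R)).symm.surjective

theorem pres_eq_zero_iff (z : PowerSeries S) : pres Δ z = 0 ↔ ((relP Δ : Polynomial S) : PowerSeries S) ∣ z := by
  show Ideal.Quotient.mk _ ((ser (R := R)).symm z) = 0 ↔ _
  rw [Ideal.Quotient.eq_zero_iff_mem, Ideal.mem_span_singleton, coe_relP, ← map_dvd_iff (ser (R := R)),
    RingEquiv.apply_symm_apply]

theorem prime_C_C [IsDomain R] (hΔ : Prime Δ) : Prime (MvPowerSeries.C Δ : S) := by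
  have : (Ideal.span {Δ}).IsPrime := (Ideal.span_singleton_prime hΔ.ne_zero).2 hΔ
  have : IsDomain (R ⧸ Ideal.span {Δ}) := Ideal.Quotient.isDomain _
  have : IsDomain (MvPowerSeries (Fin 1) (R ⧸ Ideal.span {Δ})) := NoZeroDivisors.to_isDomain _
  have hk : RingHom.ker (MvPowerSeries.map (σ := Fin 1) (Ideal.Quotient.mk (Ideal.span {Δ}))) =
      Ideal.span {(MvPowerSeries.C Δ : S)} := by
    ext f
    rw [RingHom.mem_ker, Ideal.mem_span_singleton]
    constructor
    · intro h
      have hd : ∀ m, Δ ∣ MvPowerSeries.coeff m f := fun m => by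
        have := congrArg (MvPowerSeries.coeff m) h
        rwa [MvPowerSeries.coeff_map, map_zero, Ideal.Quotient.eq_zero_iff_dvd] at this
      choose g hg using hd
      refine ⟨(fun m => g m : S), ?_⟩
      ext m
      rw [MvPowerSeries.coeff_C_mul]
      exact hg m
    · rintro ⟨g, rfl⟩
      rw [map_mul, MvPowerSeries.map_C, Ideal.Quotient.eq_zero_iff_mem.2 (Ideal.mem_span_singleton_self Δ),
        map_zero, zero_mul]
  refine (Ideal.span_singleton_prime ?_).1 (hk ▸ RingHom.ker_isPrime _)
  intro h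
  have := congrArg MvPowerSeries.constantCoeff h
  rw [MvPowerSeries.constantCoeff_C, map_zero] at this
  exact hΔ.ne_zero this

theorem not_C_dvd_X (hΔ : ¬ IsUnit Δ) : ¬ (MvPowerSeries.C Δ : S) ∣ MvPowerSeries.X 0 := by
  rintro ⟨g, hg⟩
  have := congrArg (MvPowerSeries.coeff (Finsupp.single (0 : Fin 1) 1)) hg
  rw [MvPowerSeries.coeff_index_single_self_X, MvPowerSeries.coeff_C_mul] at this
  exact hΔ (IsUnit.of_mul_eq_one _ this.symm)

variable [IsDomain R]

instance : IsDomain S := NoZeroDivisors.to_isDomain _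

theorem isPrime_X_C (hΔ : Prime Δ) :
    (Ideal.span {(MvPowerSeries.X 0 : S), MvPowerSeries.C Δ}).IsPrime := by
  have : (Ideal.span {Δ}).IsPrime := (Ideal.span_singleton_prime hΔ.ne_zero).2 hΔ
  have : IsDomain (R ⧸ Ideal.span {Δ}) := Ideal.Quotient.isDomain _
  suffices h : RingHom.ker ((Ideal.Quotient.mk (Ideal.span {Δ})).comp (MvPowerSeries.constantCoeff (σ := Fin 1) (R := R))) =
      Ideal.span {(MvPowerSeries.X 0 : S), MvPowerSeries.C Δ} from h ▸ RingHom.ker_isPrime _
  refine le_antisymm (fun a ha => ?_) ?_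
  · rw [RingHom.mem_ker, RingHom.comp_apply, Ideal.Quotient.eq_zero_iff_dvd] at ha
    obtain ⟨b, hb⟩ := ha
    obtain ⟨g, hg⟩ : (MvPowerSeries.X 0 : S) ∣ a - MvPowerSeries.C Δ * MvPowerSeries.C b := by
      rw [MvPowerSeries.X_dvd_iff]
      intro m hm
      obtain rfl : m = 0 := Finsupp.ext fun j => by rw [Subsingleton.elim j 0]; exact hm
      simp [MvPowerSeries.coeff_zero_eq_constantCoeff_apply, hb]
    rw [sub_eq_iff_eq_add] at hg
    rw [hg]
    exact add_mem (Ideal.mul_mem_right _ _ (Ideal.subset_span (by simp)))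
      (Ideal.mul_mem_right _ _ (Ideal.subset_span (by simp)))
  · rw [Ideal.span_le, Set.insert_subset_iff, Set.singleton_subset_iff]
    constructor
    · simp
    · simp [Ideal.Quotient.eq_zero_iff_mem.2 (Ideal.mem_span_singleton_self Δ)]

/-- `R[[y]][x]/(yx - Δ)`. -/
abbrev PolyN : Type u := Polynomial S ⧸ Ideal.span {relP Δ}

theorem isDomain_polyN (hΔ : Prime Δ) : IsDomain (PolyN Δ) :=
  isDomain_quot (prime_C_C Δ hΔ) (not_C_dvd_X Δ hΔ.not_unit)

theorem ufd_polyN (hΔ : Prime Δ) [IsNoetherianRing S] [UniqueFactorizationMonoid S] :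
    UniqueFactorizationMonoid (PolyN Δ) :=
  ufd_quot (prime_C_C Δ hΔ) (not_C_dvd_X Δ hΔ.not_unit) (isPrime_X_C Δ hΔ)

variable [IsLocalRing R]

/-- The branch `y = 0` over the residue field. -/
noncomputable def beta (hΔ : Δ ∈ maximalIdeal R) :
    _root_.SpinCurv.NodeRing R Δ →+* PowerSeries (ResidueField S) :=
  Ideal.Quotient.lift _ ((PowerSeries.map (residue S)).comp (ser (R := R)).toRingHom) (fun a ha => by
    obtain ⟨b, rfl⟩ := Ideal.mem_span_singleton.1 ha
    rw [map_mul]
    have hX : residue S (MvPowerSeries.X 0) = 0 := by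
      rw [residue_eq_zero_iff, mem_maximalIdeal, mem_nonunits_iff, MvPowerSeries.isUnit_iff_constantCoeff]
      simp
    have hD : residue S (MvPowerSeries.C Δ) = 0 := by
      rw [residue_eq_zero_iff, mem_maximalIdeal, mem_nonunits_iff, MvPowerSeries.isUnit_iff_constantCoeff]
      simpa using hΔ
    have : (PowerSeries.map (residue S)).comp (ser (R := R)).toRingHom
        (MvPowerSeries.X 0 * MvPowerSeries.X 1 - MvPowerSeries.C Δ) = 0 := by
      show PowerSeries.map (residue S) (ser _) = 0
      rw [ser_rel, map_sub, map_mul, PowerSeries.map_C, PowerSeries.map_C, hX, hD]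
      simp
    rw [this, zero_mul])

theorem beta_pres (hΔ : Δ ∈ maximalIdeal R) (z : PowerSeries S) :
    beta Δ hΔ (pres Δ z) = PowerSeries.map (residue S) z := by
  show PowerSeries.map (residue S) (ser ((ser (R := R)).symm z)) = _
  rw [RingEquiv.apply_symm_apply]

theorem maximalIdeal_S_le : maximalIdeal S ≤
    Ideal.span {(MvPowerSeries.X 0 : S)} ⊔ (maximalIdeal R).map (MvPowerSeries.C : R →+* S) := by
  intro s hs
  rw [mem_maximalIdeal, mem_nonunits_iff, MvPowerSeries.isUnit_iff_constantCoeff] at hs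
  obtain ⟨g, hg⟩ : (MvPowerSeries.X 0 : S) ∣ s - MvPowerSeries.C (MvPowerSeries.constantCoeff s) := by
    rw [MvPowerSeries.X_dvd_iff]
    intro m hm
    obtain rfl : m = 0 := Finsupp.ext fun j => by rw [Subsingleton.elim j 0]; exact hm
    simp [MvPowerSeries.coeff_zero_eq_constantCoeff_apply]
  rw [sub_eq_iff_eq_add] at hg
  rw [hg]
  exact add_mem (Ideal.mem_sup_left (Ideal.mul_mem_right _ _ (Ideal.subset_span rfl)))
    (Ideal.mem_sup_right (Ideal.mem_map_of_mem _ hs))

variable [IsAdicComplete (maximalIdeal R) R]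

/-- The node ring is, by coordinates, a product of copies of the base. -/
theorem flat_nodeRing [IsNoetherianRing R] (hΔ : Δ ∈ maximalIdeal R) :
    Module.Flat R (_root_.SpinCurv.NodeRing R Δ) := by
  classical
  have hsmul : ∀ (c : R) (f : MvPowerSeries (Fin 2) R) (d : ℤ),
      Groth.SpinCurv.pcoord hΔ (c • f) d = c * Groth.SpinCurv.pcoord hΔ f d := fun c f d =>
    Groth.SpinCurv.adicSum_eq_of hΔ (by
      simp only [MvPowerSeries.coeff_smul, smul_eq_mul]
      exact (Groth.SpinCurv.adicSum_spec hΔ _).const_mul c)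
  let Φ : MvPowerSeries (Fin 2) R →ₗ[R] ((ULift.{u} ℤ) → R) :=
    { toFun := fun f d => Groth.SpinCurv.pcoord hΔ f d.down
      map_add' := fun f g => funext fun d => Groth.SpinCurv.pcoord_add hΔ f g d.down
      map_smul' := fun c f => funext fun d => hsmul c f d.down }
  let I : Ideal (MvPowerSeries (Fin 2) R) :=
    Ideal.span {(MvPowerSeries.X 0 * MvPowerSeries.X 1 - MvPowerSeries.C Δ : MvPowerSeries (Fin 2) R)}
  have hsurj : Function.Surjective Φ := fun c => by
    refine ⟨(fun m => if m 0 = 0 ∨ m 1 = 0 then c ⟨(m 0 : ℤ) - m 1⟩ else 0 : MvPowerSeries (Fin 2) R), ?_⟩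
    funext d
    show Groth.SpinCurv.pcoord hΔ _ d.down = _
    rw [pcoord_of_axis hΔ (fun m h0 h1 => by
      rw [MvPowerSeries.coeff_apply]; show (if _ then _ else _) = _; rw [if_neg (by tauto)]),
      MvPowerSeries.coeff_apply]
    show (if _ then _ else _) = _
    rw [if_pos (by simp [axis]; omega)]
    congr 1
    ext
    simp [axis]
  have hker : LinearMap.ker Φ = I.restrictScalars R := by
    ext f
    rw [LinearMap.mem_ker, Submodule.restrictScalars_mem]
    constructor
    · intro h
      exact Groth.SpinCurv.mem_span_of_pcoord_eq_zero hΔ fun d => congrFun h ⟨d⟩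
    · intro h
      obtain ⟨b, rfl⟩ := Ideal.mem_span_singleton.1 h
      exact funext fun d => Groth.SpinCurv.pcoord_rel_mul hΔ b d.down
  haveI := (Groth.Agent.S6347.result R (ULift.{u} ℤ)).1
  exact Module.Flat.of_linearEquiv (((Submodule.Quotient.restrictScalarsEquiv R I).symm.trans
    (Submodule.quotEquivOfEq _ _ hker.symm)).trans (Φ.quotKerEquivOfSurjective hsurj))

end

section main

variable {R : Type u} [CommRing R] [IsRegularLocalRing R] [IsAdicComplete (maximalIdeal R) R] (Δ : R)

local notation "S" => MvPowerSeries (Fin 1) R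

theorem factorial_nodeRing (hΔ : Prime Δ) :
    IsDomain (_root_.SpinCurv.NodeRing R Δ) ∧ UniqueFactorizationMonoid (_root_.SpinCurv.NodeRing R Δ) := by
  classical
  haveI := Groth.Ega4Algebra1.isDomain_of_isRegularLocalRing R
  have hΔm : Δ ∈ maximalIdeal R := hΔ.not_unit
  haveI hdom := isDomain_nodeRing hΔm hΔ.ne_zero
  refine ⟨hdom, ?_⟩
  haveI := Groth.LocDual.isRegularLocalRing_mvPowerSeries R 1
  haveI := Groth.Ega41Flat.isAdicComplete_mvPowerSeries (C := R) 1
  haveI := Groth.PicAux.ufd_of_isRegularLocalRing S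
  haveI := Groth.LocDual.isRegularLocalRing_mvPowerSeries R 2
  haveI := isDomain_polyN Δ hΔ
  haveI := ufd_polyN Δ hΔ
  set A := _root_.SpinCurv.NodeRing R Δ
  haveI : IsNoetherianRing A :=
    isNoetherianRing_of_surjective (MvPowerSeries (Fin 2) R) A (Ideal.Quotient.mk _) Ideal.Quotient.mk_surjective
  set η : Ideal A := RingHom.ker (beta Δ hΔm) with hη
  haveI hηp : η.IsPrime := RingHom.ker_isPrime _
  let φ : Polynomial S →+* A := (pres Δ).comp (Polynomial.coeToPowerSeries.ringHom)
  -- off `η` every element is a unit times a product of primes off `η`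
  have hfac : ∀ s : A, s ∉ η → ∃ (ps : Multiset A) (u : Aˣ), (∀ p ∈ ps, Prime p ∧ p ∉ η) ∧ s = u * ps.prod := by
    intro s hs
    obtain ⟨g, rfl⟩ := pres_surjective Δ s
    have hg : g.map (residue S) ≠ 0 := by rwa [hη, RingHom.mem_ker, beta_pres] at hs
    obtain ⟨f, h, H⟩ := PowerSeries.exists_isWeierstrassFactorization hg
    have hgf : pres Δ g = pres Δ h * φ f := by
      rw [H.eq_mul, map_mul, mul_comm]; rfl
    have hφf : φ f ∉ η := fun hc => hs (by rw [hgf]; exact Ideal.mul_mem_left _ _ hc)
    have hφ0 : ∀ a, Ideal.Quotient.mk (Ideal.span {relP Δ}) a = 0 → φ a = 0 := fun a ha => by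
      obtain ⟨b, rfl⟩ := Ideal.mem_span_singleton.1 (Ideal.Quotient.eq_zero_iff_mem.1 ha)
      exact (pres_eq_zero_iff Δ _).2 ⟨(b : PowerSeries S), by simp⟩
    let φ₀ : PolyN Δ →+* A := Ideal.Quotient.lift _ φ (fun a ha => hφ0 a (Ideal.Quotient.eq_zero_iff_mem.2 ha))
    set f₀ : PolyN Δ := Ideal.Quotient.mk _ f
    have hf0 : f₀ ≠ 0 := fun h0 => hφf (by rw [hφ0 f h0]; exact zero_mem _)
    obtain ⟨ps, hps, u, hu⟩ := UniqueFactorizationMonoid.exists_prime_factors f₀ hf0
    have key : ∀ p ∈ ps, IsUnit (φ₀ p) ∨ (Prime (φ₀ p) ∧ φ₀ p ∉ η) := by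
      intro p hp
      have hpf : p ∣ f₀ := (Multiset.dvd_prod hp).trans ⟨u, hu.symm⟩
      obtain ⟨pt, rfl⟩ := Ideal.Quotient.mk_surjective p
      have hnη : φ pt ∉ η := fun hc => hφf (by
        have h1 := map_dvd φ₀ hpf
        exact Ideal.mem_of_dvd _ h1 hc)
      by_cases hu' : IsUnit (φ pt)
      · exact Or.inl hu'
      refine Or.inr ⟨⟨?_, hu', ?_⟩, hnη⟩
      · intro h0
        exact hnη (by
          show φ pt ∈ η
          rw [show φ pt = 0 from h0]; exact zero_mem _)
      -- lifts of elements of `A` as polynomials modulo `f`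
      let ε := PowerSeries.IsWeierstrassFactorizationAt.algEquivQuotient H
      have hεmk : ∀ P : Polynomial S, ε (Ideal.Quotient.mk _ P) = Ideal.Quotient.mk _ (P : PowerSeries S) := fun P => by
        simp only [ε, PowerSeries.IsWeierstrassFactorizationAt.algEquivQuotient,
          Polynomial.IsDistinguishedAt.algEquivQuotient]
        rfl
      have hlift : ∀ z : PowerSeries S, ∃ (P : Polynomial S) (c : PowerSeries S),
          z = (P : PowerSeries S) + g * c := fun z => by
        obtain ⟨w, hw⟩ := ε.surjective (Ideal.Quotient.mk _ z)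
        obtain ⟨P, rfl⟩ := Ideal.Quotient.mk_surjective w
        rw [hεmk, Ideal.Quotient.eq, Ideal.mem_span_singleton] at hw
        obtain ⟨c, hc⟩ := hw
        exact ⟨P, -c, by linear_combination -hc⟩
      -- membership: `P ∈ (p)` upstairs implies `P ∈ (p)` downstairs
      have hdown : ∀ P : Polynomial S, φ pt ∣ φ P →
          Ideal.Quotient.mk (Ideal.span {relP Δ}) pt ∣ Ideal.Quotient.mk _ P := by
        rintro P ⟨a, ha⟩
        obtain ⟨a, rfl⟩ := pres_surjective Δ a
        have h1 : pres Δ ((P : PowerSeries S) - (pt : PowerSeries S) * a) = 0 := by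
          rw [map_sub, map_mul]
          exact sub_eq_zero.2 ha
        obtain ⟨b, hb⟩ := (pres_eq_zero_iff Δ _).1 h1
        obtain ⟨a', ca, rfl⟩ := hlift a
        obtain ⟨b', cb, rfl⟩ := hlift b
        have h2 : ε (Ideal.Quotient.mk _ (P - pt * a' - relP Δ * b')) = 0 := by
          rw [hεmk, Ideal.Quotient.eq_zero_iff_mem, Ideal.mem_span_singleton]
          refine ⟨(pt : PowerSeries S) * ca + ((relP Δ : Polynomial S) : PowerSeries S) * cb, ?_⟩
          push_cast
          linear_combination hb
        rw [map_eq_zero_iff _ ε.injective, Ideal.Quotient.eq_zero_iff_mem, Ideal.mem_span_singleton] at h2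
        obtain ⟨e, he⟩ := h2
        have h3 : (Ideal.Quotient.mk (Ideal.span {relP Δ}) P : PolyN Δ) =
            Ideal.Quotient.mk _ pt * Ideal.Quotient.mk _ a' + f₀ * Ideal.Quotient.mk _ e := by
          rw [← map_mul, ← map_mul, ← map_add, Ideal.Quotient.eq]
          exact Ideal.mem_span_singleton.2 ⟨b', by linear_combination he⟩
        rw [h3]
        obtain ⟨k, hk⟩ := hpf
        exact ⟨Ideal.Quotient.mk _ a' + k * Ideal.Quotient.mk _ e, by rw [hk]; ring⟩
      intro a b hab
      obtain ⟨a, rfl⟩ := pres_surjective Δ a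
      obtain ⟨b, rfl⟩ := pres_surjective Δ b
      obtain ⟨a', ca, rfl⟩ := hlift a
      obtain ⟨b', cb, rfl⟩ := hlift b
      have hgdvd : φ pt ∣ pres Δ g := by
        rw [hgf]
        exact (show φ pt ∣ φ f from map_dvd φ₀ hpf).mul_left _
      have e1 : ∀ (P : Polynomial S) (c : PowerSeries S),
          pres Δ ((P : PowerSeries S) + g * c) = φ P + pres Δ g * pres Δ c := fun P c => by
        rw [map_add, map_mul]; rfl
      change φ pt ∣ _ at hab
      show φ pt ∣ _ ∨ φ pt ∣ _
      rw [e1, e1] at hab ⊢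
      have hab' : φ pt ∣ φ (a' * b') := by
        rw [map_mul]
        obtain ⟨k, hk⟩ := hgdvd
        obtain ⟨l, hl⟩ := hab
        refine ⟨l - k * pres Δ ca * φ b' - φ a' * k * pres Δ cb - k * pres Δ ca * pres Δ g * pres Δ cb, ?_⟩
        rw [hk] at hl ⊢
        linear_combination hl
      have h4 := hdown _ hab'
      rw [map_mul] at h4
      rcases (hps _ hp).dvd_or_dvd h4 with h5 | h5
      · left
        exact dvd_add (map_dvd φ₀ h5) (hgdvd.mul_right _)
      · right
        exact dvd_add (map_dvd φ₀ h5) (hgdvd.mul_right _)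
    -- assemble
    let T := ps.map φ₀
    have hT : ∀ q ∈ T, IsUnit q ∨ (Prime q ∧ q ∉ η) := by
      intro q hq
      obtain ⟨p, hp, rfl⟩ := Multiset.mem_map.1 hq
      exact key p hp
    have hprod : IsUnit (T.filter fun q => IsUnit q).prod := by
      refine Multiset.prod_induction _ _ (fun a b => IsUnit.mul) isUnit_one fun q hq => ?_
      exact (Multiset.mem_filter.1 hq).2
    have huh : IsUnit (pres Δ h * φ₀ u) := (H.isUnit.map _).mul (u.isUnit.map _)
    refine ⟨T.filter fun q => ¬ IsUnit q, (huh.mul hprod).unit, fun q hq => ?_, ?_⟩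
    · obtain ⟨hq1, hq2⟩ := Multiset.mem_filter.1 hq
      exact (hT q hq1).resolve_left hq2
    · rw [hgf, IsUnit.unit_spec, show φ f = φ₀ f₀ from rfl, ← hu, map_mul, map_multiset_prod]
      have hsplit : T.prod = (T.filter fun q => IsUnit q).prod * (T.filter fun q => ¬ IsUnit q).prod := by
        rw [← Multiset.prod_add, Multiset.filter_add_not]
      show pres Δ h * (T.prod * φ₀ u) = _
      rw [hsplit]
      ring
  -- Nagata
  let Pset : Set A := {p | Prime p ∧ p ∉ η}
  let Aη := Localization.AtPrime η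
  have hcl : Submonoid.closure Pset ≤ η.primeCompl := Submonoid.closure_le.2 fun p hp => hp.2
  haveI : IsLocalization (Submonoid.closure Pset) Aη := by
    refine (isLocalization_iff _ _).2 ⟨fun y => ?_, fun z => ?_, @fun a b h => ⟨1, ?_⟩⟩
    · exact IsLocalization.map_units Aη (⟨y.1, hcl y.2⟩ : η.primeCompl)
    · obtain ⟨⟨a, s⟩, hz⟩ := IsLocalization.surj η.primeCompl z
      obtain ⟨ps, u, hps, hs⟩ := hfac s.1 s.2
      refine ⟨⟨↑u⁻¹ * a, ⟨ps.prod, multiset_prod_mem _ fun p hp => Submonoid.subset_closure (hps p hp)⟩⟩, ?_⟩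
      rw [hs, map_mul] at hz
      rw [map_mul, ← hz, mul_comm (algebraMap A Aη ↑u⁻¹), mul_assoc, mul_assoc,
        mul_comm (algebraMap A Aη ps.prod), ← mul_assoc (algebraMap A Aη ↑u), ← map_mul, Units.mul_inv,
        map_one, one_mul]
    · rw [IsLocalization.injective Aη η.primeCompl_le_nonZeroDivisors h]
  haveI : IsDomain (Localization (Submonoid.closure Pset)) :=
    IsLocalization.isDomain_localization (hcl.trans η.primeCompl_le_nonZeroDivisors)
  refine Groth.Calg1.ufd_of_ufd_localization (fun a ha _ => WfDvdMonoid.exists_factors a ha) Pset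
    (fun p hp => hp.1) ?_
  suffices hreg : IsRegularLocalRing Aη by
    exact MulEquiv.uniqueFactorizationMonoid
      (IsLocalization.algEquiv (Submonoid.closure Pset) Aη _).toMulEquiv
      (Groth.PicAux.ufd_of_isRegularLocalRing Aη)
  -- regularity at `η`
  let cA' : R →+* A := algebraMap R A
  have hcA : ∀ a : R, cA' a = pres Δ (PowerSeries.C (MvPowerSeries.C a)) := fun a => by
    show Ideal.Quotient.mk _ (MvPowerSeries.C a) = Ideal.Quotient.mk _ ((ser (R := R)).symm _)
    rw [← ser_C, RingEquiv.symm_apply_apply]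
  let x : A := pres Δ PowerSeries.X
  let y : A := pres Δ (PowerSeries.C (MvPowerSeries.X 0))
  have hxy : x * y = cA' Δ := by
    rw [hcA, ← sub_eq_zero, ← map_mul, ← map_sub, pres_eq_zero_iff, coe_relP, ser_rel]
  have hx : x ∉ η := by
    rw [hη, RingHom.mem_ker, beta_pres, PowerSeries.map_X]
    exact PowerSeries.X_ne_zero
  have hηle : η ≤ Ideal.span {y} ⊔ (maximalIdeal R).map cA' := by
    intro z hz
    obtain ⟨g, rfl⟩ := pres_surjective Δ z
    rw [hη, RingHom.mem_ker, beta_pres, ← RingHom.mem_ker, ← show (maximalIdeal S).map PowerSeries.C = RingHom.ker (PowerSeries.map (residue S)) from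
      Groth.ParaFormal.PowerSeriesCase.ker_map_mk (maximalIdeal S)] at hz
    have h1 := Ideal.mem_map_of_mem (pres Δ) (Ideal.map_mono maximalIdeal_S_le hz)
    rw [Ideal.map_map, Ideal.map_sup, Ideal.map_span, Set.image_singleton, Ideal.map_map] at h1
    rwa [show (((pres Δ).comp PowerSeries.C).comp MvPowerSeries.C) = cA' from RingHom.ext fun a => (hcA a).symm] at h1
  have hmax : maximalIdeal Aη ≤ ((maximalIdeal R).map cA').map (algebraMap A Aη) := by
    rw [← Localization.AtPrime.map_eq_maximalIdeal]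
    refine (Ideal.map_mono hηle).trans ?_
    rw [Ideal.map_sup, Ideal.map_span, Set.image_singleton, sup_le_iff, Ideal.span_le, Set.singleton_subset_iff]
    refine ⟨?_, le_rfl⟩
    have hu : IsUnit (algebraMap A Aη x) := IsLocalization.map_units Aη (⟨x, hx⟩ : η.primeCompl)
    refine (Ideal.unit_mul_mem_iff_mem _ hu).1 ?_
    rw [← map_mul, hxy]
    exact Ideal.mem_map_of_mem _ (Ideal.mem_map_of_mem _ hΔm)
  have hcomap : η.comap cA' = maximalIdeal R := by
    ext a
    rw [Ideal.mem_comap, hη, RingHom.mem_ker, hcA, beta_pres, PowerSeries.map_C,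
      map_eq_zero_iff _ PowerSeries.C_injective, residue_eq_zero_iff, mem_maximalIdeal, mem_maximalIdeal,
      mem_nonunits_iff, mem_nonunits_iff, MvPowerSeries.isUnit_iff_constantCoeff, MvPowerSeries.constantCoeff_C]
  haveI : η.LiesOver (maximalIdeal R) := ⟨hcomap.symm⟩
  haveI : Module.Flat R A := flat_nodeRing Δ hΔm
  refine IsRegularLocalRing.of_spanFinrank_maximalIdeal_le _ ?_
  have h1 : (maximalIdeal Aη).spanFinrank ≤ (maximalIdeal R).spanFinrank := by
    have heq : maximalIdeal Aη = (maximalIdeal R).map ((algebraMap A Aη).comp cA') := by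
      refine le_antisymm (hmax.trans (Ideal.map_map _ _).le) ?_
      rw [← Ideal.map_map, ← Localization.AtPrime.map_eq_maximalIdeal]
      exact Ideal.map_mono (Ideal.map_le_iff_le_comap.2 hcomap.ge)
    rw [heq]
    exact Ideal.spanFinrank_map_le_of_fg _ (IsNoetherian.noetherian _)
  have h2 : (maximalIdeal R).height ≤ η.height := by
    rw [Ideal.height_eq_height_add_of_liesOver_of_hasGoingDown (maximalIdeal R) η]
    exact le_self_add
  rw [IsLocalization.AtPrime.ringKrullDim_eq_height η Aη]
  refine le_trans ?_ (WithBot.coe_le_coe.2 h2)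
  rw [maximalIdeal_height_eq_ringKrullDim, ← IsRegularLocalRing.spanFinrank_maximalIdeal]
  exact_mod_cast h1

end main

end Groth.NodeFibral
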