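import Groth.Agent.NodeFibral.Domain
import Groth.Agent.NodeRing.Basic
import Groth.Agent.Calg1.AnalyticallyUnramifiedN1

/-!
The primes of `R[[x, y]]/(xy - r)` over a prime `π` of `R`, and their traces on the polynomial ring.
-/

set_option autoImplicit false

universe u

open IsLocalRing

namespace Groth.NodeFibral

variable {R : Type u} [CommRing R] (r π : R)

/-- The map `R → R[[x, y]]/(xy - r)`. -/
noncomputable abbrev cA : R →+* _root_.SpinCurv.NodeRing R r :=
  (Ideal.Quotient.mk _).comp MvPowerSeries.C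

/-- The map `R → R[x, y]/(xy - r)`. -/
noncomputable abbrev cB : R →+* _root_.SpinCurv.PolyNodeRing R r :=
  (Ideal.Quotient.mk _).comp MvPolynomial.C

/-- The natural map from the polynomial to the power series node ring. -/
noncomputable def ι : _root_.SpinCurv.PolyNodeRing R r →+* _root_.SpinCurv.NodeRing R r :=
  Ideal.quotientMap _ (MvPolynomial.coeToMvPowerSeries.ringHom) (by
    rw [Ideal.span_le, Set.singleton_subset_iff, SetLike.mem_coe, Ideal.mem_comap]
    refine Ideal.subset_span ?_
    rw [Set.mem_singleton_iff, map_sub, map_mul]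
    simp)

theorem ι_mk (f : MvPolynomial (Fin 2) R) :
    ι r (Ideal.Quotient.mk _ f) = Ideal.Quotient.mk _ (f : MvPowerSeries (Fin 2) R) := rfl

/-- Reduction modulo `π`. -/
noncomputable def redA : _root_.SpinCurv.NodeRing R r →+*
    _root_.SpinCurv.NodeRing (R ⧸ Ideal.span {π}) (Ideal.Quotient.mk _ r) :=
  Ideal.quotientMap _ (MvPowerSeries.map (Ideal.Quotient.mk _)) (by
    rw [Ideal.span_le, Set.singleton_subset_iff, SetLike.mem_coe, Ideal.mem_comap]
    refine Ideal.subset_span ?_
    simp)

theorem redA_surjective : Function.Surjective (redA r π) := by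
  intro x
  obtain ⟨g, rfl⟩ := Ideal.Quotient.mk_surjective x
  choose c hc using fun m => Ideal.Quotient.mk_surjective (MvPowerSeries.coeff m g)
  refine ⟨Ideal.Quotient.mk _ (fun m => c m : MvPowerSeries (Fin 2) R), ?_⟩
  show Ideal.Quotient.mk _ _ = _
  congr 1
  ext m
  rw [MvPowerSeries.coeff_map, MvPowerSeries.coeff_apply]
  exact hc m

theorem C_mem_of_forall {f : MvPowerSeries (Fin 2) R}
    (h : MvPowerSeries.map (Ideal.Quotient.mk (Ideal.span {π})) f = 0) :
    MvPowerSeries.C π ∣ f := by
  have hd : ∀ m, π ∣ MvPowerSeries.coeff m f := fun m => by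
    have := congrArg (MvPowerSeries.coeff m) h
    rwa [MvPowerSeries.coeff_map, map_zero, Ideal.Quotient.eq_zero_iff_dvd] at this
  choose c hc using hd
  refine ⟨(fun m => c m : MvPowerSeries (Fin 2) R), ?_⟩
  ext m
  rw [MvPowerSeries.coeff_C_mul]
  exact hc m

theorem ker_redA : RingHom.ker (redA r π) = Ideal.span {cA r π} := by
  refine le_antisymm (fun x hx => ?_) ?_
  · obtain ⟨f, rfl⟩ := Ideal.Quotient.mk_surjective x
    rw [RingHom.mem_ker] at hx
    change Ideal.Quotient.mk _ (MvPowerSeries.map _ f) = 0 at hx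
    obtain ⟨g, hg⟩ := Ideal.mem_span_singleton.1 (Ideal.Quotient.eq_zero_iff_mem.1 hx)
    choose c hc using fun m => Ideal.Quotient.mk_surjective (MvPowerSeries.coeff m g)
    let cs : MvPowerSeries (Fin 2) R := fun m => c m
    obtain ⟨q, hq⟩ := C_mem_of_forall π
      (f := f - (MvPowerSeries.X 0 * MvPowerSeries.X 1 - MvPowerSeries.C r) * cs) (by
      rw [map_sub, hg, map_mul, map_sub, map_mul, MvPowerSeries.map_X, MvPowerSeries.map_X,
        MvPowerSeries.map_C, sub_eq_zero]
      congr 1
      ext m
      rw [MvPowerSeries.coeff_map, MvPowerSeries.coeff_apply]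
      exact (hc m).symm)
    rw [sub_eq_iff_eq_add] at hq
    rw [hq, map_add, map_mul, map_mul, Ideal.Quotient.eq_zero_iff_mem.2
      (Ideal.mem_span_singleton_self _), zero_mul, add_zero]
    exact Ideal.mul_mem_right _ _ (Ideal.subset_span rfl)
  · rw [Ideal.span_le, Set.singleton_subset_iff, SetLike.mem_coe, RingHom.mem_ker]
    show Ideal.Quotient.mk _ (MvPowerSeries.map _ (MvPowerSeries.C π)) = 0
    rw [MvPowerSeries.map_C, Ideal.Quotient.eq_zero_iff_mem.2 (Ideal.mem_span_singleton_self π),
      map_zero, map_zero]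

variable {r π}

/-- The branch `v i = 0` over `π ∣ r`. -/
noncomputable def brA (h : π ∣ r) (i : Fin 2) :
    _root_.SpinCurv.NodeRing R r →+* PowerSeries (R ⧸ Ideal.span {π}) :=
  (PowerSeries.map (Ideal.Quotient.factor (Ideal.span_singleton_le_span_singleton.2 h))).comp
    (Groth.NodeRing.branch r i)

theorem ker_brA (h : π ∣ r) (i : Fin 2) :
    RingHom.ker (brA h i) = Ideal.span {cA r π, Groth.NodeRing.v r i} := by
  refine le_antisymm (fun x hx => ?_) ?_
  · rw [RingHom.mem_ker, brA, RingHom.comp_apply] at hx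
    have hd : ∀ n, Ideal.Quotient.mk (Ideal.span {r}) π ∣
        PowerSeries.coeff n (Groth.NodeRing.branch r i x) := fun n => by
      have := congrArg (PowerSeries.coeff n) hx
      rw [PowerSeries.coeff_map, map_zero] at this
      obtain ⟨y, hy⟩ := Ideal.Quotient.mk_surjective (PowerSeries.coeff n (Groth.NodeRing.branch r i x))
      rw [← hy, Ideal.Quotient.factor_mk, Ideal.Quotient.eq_zero_iff_dvd] at this
      rw [← hy]
      exact map_dvd _ this
    choose c hc using hd
    obtain ⟨z, hz⟩ := Groth.NodeRing.branch_surjective r i (PowerSeries.mk c)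
    have h0 : Groth.NodeRing.branch r i (x - cA r π * z) = 0 := by
      rw [map_sub, map_mul, show cA r π = algebraMap R _ π from rfl,
        Groth.NodeRing.branch_algebraMap, hz, sub_eq_zero]
      refine PowerSeries.ext fun n => ?_
      rw [PowerSeries.coeff_C_mul, PowerSeries.coeff_mk]
      exact hc n
    rw [← RingHom.mem_ker, Groth.NodeRing.ker_branch] at h0
    have h1 : Groth.NodeRing.v r i ∈ Ideal.span ({cA r π, Groth.NodeRing.v r i} : Set (_root_.SpinCurv.NodeRing R r)) :=
      Ideal.subset_span (by simp)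
    have h2 : cA r π ∈ Ideal.span ({cA r π, Groth.NodeRing.v r i} : Set (_root_.SpinCurv.NodeRing R r)) :=
      Ideal.subset_span (by simp)
    have := add_mem ((Ideal.span_le.2 (Set.singleton_subset_iff.2 h1)) h0) (Ideal.mul_mem_right z _ h2)
    simpa using this
  · rw [Ideal.span_le, Set.insert_subset_iff, Set.singleton_subset_iff]
    simp only [SetLike.mem_coe, RingHom.mem_ker, brA, RingHom.comp_apply]
    constructor
    · rw [show (Ideal.Quotient.mk _ (MvPowerSeries.C π) : ArLef.NodeAlg R r) = algebraMap R _ π from rfl,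
        Groth.NodeRing.branch_algebraMap, PowerSeries.map_C, Ideal.Quotient.factor_mk,
        Ideal.Quotient.eq_zero_iff_mem.2 (Ideal.mem_span_singleton_self π), map_zero]
    · rw [Groth.NodeRing.branch_self, map_zero]

variable (r π)

open Classical in
/-- The generators of the primes over `π`: the branch indices, or none. -/
def gens : Set (Option (Fin 2)) := if π ∣ r then {some 0, some 1} else {none}

/-- The ideal of the polynomial ring attached to a branch. -/
noncomputable def primeB : Option (Fin 2) → Ideal (_root_.SpinCurv.PolyNodeRing R r)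
  | none => Ideal.span {cB r π}
  | some i => Ideal.span {cB r π, Ideal.Quotient.mk _ (MvPolynomial.X i)}

/-- The ideal of the power series ring attached to a branch. -/
noncomputable def primeA (o : Option (Fin 2)) : Ideal (_root_.SpinCurv.NodeRing R r) :=
  (primeB r π o).map (ι r)

theorem ι_cB (a : R) : ι r (cB r a) = cA r a := by
  show ι r (Ideal.Quotient.mk _ (MvPolynomial.C a)) = _
  rw [ι_mk, MvPolynomial.coe_C]
  rfl

theorem primeA_none : primeA r π none = Ideal.span {cA r π} := by
  rw [primeA, primeB, Ideal.map_span, Set.image_singleton, ι_cB]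

theorem primeA_some (i : Fin 2) :
    primeA r π (some i) = Ideal.span {cA r π, Groth.NodeRing.v r i} := by
  rw [primeA, primeB, Ideal.map_span, Set.image_pair, ι_cB, ι_mk, MvPolynomial.coe_X]

theorem exists_primeB_le {q : Ideal (_root_.SpinCurv.PolyNodeRing R r)} [q.IsPrime] (hq : cB r π ∈ q) :
    ∃ o ∈ gens r π, primeB r π o ≤ q := by
  by_cases h : π ∣ r
  · obtain ⟨s, hs⟩ := h
    have : (Ideal.Quotient.mk _ (MvPolynomial.X 0) : _root_.SpinCurv.PolyNodeRing R r) *
        Ideal.Quotient.mk _ (MvPolynomial.X 1) ∈ q := by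
      rw [← map_mul, (Ideal.Quotient.eq (I := Ideal.span {(MvPolynomial.X 0 * MvPolynomial.X 1 - MvPolynomial.C r : MvPolynomial (Fin 2) R)})).2
        (Ideal.mem_span_singleton_self _)]
      have e : (Ideal.Quotient.mk _ (MvPolynomial.C r) : _root_.SpinCurv.PolyNodeRing R r) = cB r π * cB r s := by
        rw [← map_mul, ← hs]; rfl
      rw [e]
      exact Ideal.mul_mem_right _ _ hq
    rcases Ideal.IsPrime.mem_or_mem ‹q.IsPrime› this with h' | h'
    · refine ⟨some 0, by simp [gens, hs], ?_⟩
      rw [primeB, Ideal.span_le, Set.insert_subset_iff, Set.singleton_subset_iff]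
      exact ⟨hq, h'⟩
    · refine ⟨some 1, by simp [gens, hs], ?_⟩
      rw [primeB, Ideal.span_le, Set.insert_subset_iff, Set.singleton_subset_iff]
      exact ⟨hq, h'⟩
  · refine ⟨none, by simp [gens, h], ?_⟩
    rw [primeB, Ideal.span_le, Set.singleton_subset_iff]
    exact hq

theorem exists_primeA_le {Q : Ideal (_root_.SpinCurv.NodeRing R r)} [Q.IsPrime] (hQ : cA r π ∈ Q) :
    ∃ o ∈ gens r π, primeA r π o ≤ Q := by
  obtain ⟨o, ho, hle⟩ := exists_primeB_le r π (q := Q.comap (ι r))
    (by rw [Ideal.mem_comap, ι_cB]; exact hQ)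
  exact ⟨o, ho, Ideal.map_le_iff_le_comap.2 hle⟩

section

variable [IsLocalRing R] [IsNoetherianRing R] [IsAdicComplete (maximalIdeal R) R]
variable (hr : r ∈ maximalIdeal R) (hπ : Prime π)

include hr hπ

theorem isPrime_primeA {o : Option (Fin 2)} (ho : o ∈ gens r π) : (primeA r π o).IsPrime := by
  have hp : (Ideal.span {π}).IsPrime := (Ideal.span_singleton_prime hπ.ne_zero).2 hπ
  have : IsDomain (R ⧸ Ideal.span {π}) := Ideal.Quotient.isDomain _
  by_cases h : π ∣ r
  · simp only [gens, if_pos h, Set.mem_insert_iff, Set.mem_singleton_iff] at ho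
    rcases ho with rfl | rfl <;> rw [primeA_some, ← ker_brA h] <;> exact RingHom.ker_isPrime _
  · simp only [gens, if_neg h, Set.mem_singleton_iff] at ho
    subst ho
    haveI : IsAdicComplete (maximalIdeal (R ⧸ Ideal.span {π})) (R ⧸ Ideal.span {π}) :=
      Groth.Calg1.isAdicComplete_quotient _
    have := isDomain_nodeRing (T := R ⧸ Ideal.span {π}) (t := Ideal.Quotient.mk _ r)
      (by
        rw [mem_maximalIdeal, mem_nonunits_iff]
        haveI := IsLocalHom.of_surjective (Ideal.Quotient.mk (Ideal.span {π})) Ideal.Quotient.mk_surjective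
        exact fun hu => hr (isUnit_of_map_unit (Ideal.Quotient.mk (Ideal.span {π})) r hu))
      (fun h0 => h (Ideal.Quotient.eq_zero_iff_dvd _ _ |>.1 h0))
    rw [primeA_none, ← ker_redA]
    exact RingHom.ker_isPrime _

theorem comap_primeA {o : Option (Fin 2)} (ho : o ∈ gens r π) :
    (primeA r π o).comap (ι r) = primeB r π o := by
  classical
  have hp : (Ideal.span {π}).IsPrime := (Ideal.span_singleton_prime hπ.ne_zero).2 hπ
  refine le_antisymm (fun x hx => ?_) Ideal.le_comap_map
  rw [Ideal.mem_comap] at hx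
  obtain ⟨f, rfl⟩ := Ideal.Quotient.mk_surjective x
  by_cases h : π ∣ r
  · obtain ⟨i, rfl⟩ : ∃ i, o = some i := by
      simp only [gens, if_pos h, Set.mem_insert_iff, Set.mem_singleton_iff] at ho
      rcases ho with rfl | rfl <;> exact ⟨_, rfl⟩
    rw [primeA_some, ← ker_brA h, RingHom.mem_ker, ι_mk, brA, RingHom.comp_apply] at hx
    rw [f.as_sum, map_sum]
    refine Ideal.sum_mem _ fun m _ => ?_
    rw [MvPolynomial.monomial_eq, map_mul]
    by_cases hm : m i = 0
    · refine Ideal.mul_mem_right _ _ ?_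
      have := congrArg (PowerSeries.coeff (m (i + 1))) hx
      rw [PowerSeries.coeff_map, Groth.NodeRing.branch_mk, PowerSeries.coeff_map,
        Groth.NodeRing.coeff_res, map_zero, Ideal.Quotient.factor_mk,
        ← (Groth.NodeRing.single_iff i).1 hm, MvPolynomial.coeff_coe,
        Ideal.Quotient.eq_zero_iff_dvd] at this
      obtain ⟨c, hc⟩ := this
      rw [hc, map_mul, map_mul]
      exact Ideal.mul_mem_right _ _ (Ideal.subset_span (by simp [cB]))
    · refine Ideal.mul_mem_left _ _ ?_
      rw [Finsupp.prod, map_prod, ← Finset.mul_prod_erase _ _ (Finsupp.mem_support_iff.2 hm)]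
      refine Ideal.mul_mem_right _ _ ?_
      rw [map_pow]
      exact Ideal.pow_mem_of_mem _ (Ideal.subset_span (by simp)) _ (Nat.pos_of_ne_zero hm)
  · obtain rfl : o = none := by simpa [gens, h] using ho
    have : IsDomain (R ⧸ Ideal.span {π}) := Ideal.Quotient.isDomain _
    haveI : IsAdicComplete (maximalIdeal (R ⧸ Ideal.span {π})) (R ⧸ Ideal.span {π}) :=
      Groth.Calg1.isAdicComplete_quotient _
    rw [primeA_none, ← ker_redA, RingHom.mem_ker, ι_mk] at hx
    change Ideal.Quotient.mk _ (MvPowerSeries.map _ (f : MvPowerSeries (Fin 2) R)) = 0 at hx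
    have e : MvPowerSeries.map (Ideal.Quotient.mk (Ideal.span {π})) (f : MvPowerSeries (Fin 2) R) =
        ((MvPolynomial.map (Ideal.Quotient.mk (Ideal.span {π})) f : MvPolynomial (Fin 2) _) :
          MvPowerSeries (Fin 2) (R ⧸ Ideal.span {π})) := by
      ext m
      simp [MvPolynomial.coeff_coe, MvPolynomial.coeff_map]
    rw [e, Ideal.Quotient.eq_zero_iff_mem] at hx
    obtain ⟨g, hg⟩ := Ideal.mem_span_singleton.1 (mem_span_of_coe_mem (by
        rw [mem_maximalIdeal, mem_nonunits_iff]
        haveI := IsLocalHom.of_surjective (Ideal.Quotient.mk (Ideal.span {π})) Ideal.Quotient.mk_surjective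
        haveI := IsLocalHom.of_surjective (Ideal.Quotient.mk (Ideal.span {π})) Ideal.Quotient.mk_surjective
        exact fun hu => hr (isUnit_of_map_unit (Ideal.Quotient.mk (Ideal.span {π})) r hu)) hx)
    obtain ⟨g', rfl⟩ := MvPolynomial.map_surjective (Ideal.Quotient.mk (Ideal.span {π}))
      Ideal.Quotient.mk_surjective g
    have hk : f - (MvPolynomial.X 0 * MvPolynomial.X 1 - MvPolynomial.C r) * g' ∈
        RingHom.ker (MvPolynomial.map (σ := Fin 2) (Ideal.Quotient.mk (Ideal.span {π}))) := by
      rw [RingHom.mem_ker, map_sub, hg]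
      simp
    rw [MvPolynomial.ker_map, Ideal.mk_ker, Ideal.map_span, Set.image_singleton,
      Ideal.mem_span_singleton] at hk
    obtain ⟨q, hq⟩ := hk
    rw [sub_eq_iff_eq_add] at hq
    rw [primeB, hq, map_add, map_mul, map_mul, Ideal.Quotient.eq_zero_iff_mem.2
      (Ideal.mem_span_singleton_self _), zero_mul, add_zero]
    exact Ideal.mul_mem_right _ _ (Ideal.subset_span rfl)

theorem eq_of_le {o o' : Option (Fin 2)} (ho : o ∈ gens r π) (ho' : o' ∈ gens r π)
    (h : primeA r π o' ≤ primeA r π o) : o' = o := by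
  classical
  by_cases hd : π ∣ r
  · simp only [gens, if_pos hd, Set.mem_insert_iff, Set.mem_singleton_iff] at ho ho'
    have : ∀ i : Fin 2, ¬ primeA r π (some (i + 1)) ≤ primeA r π (some i) := fun i hle => by
      have hm : Groth.NodeRing.v r (i + 1) ∈ primeA r π (some (i + 1)) := by
        rw [primeA_some]; exact Ideal.subset_span (by simp)
      have h1 := hle hm
      rw [primeA_some, ← ker_brA hd, RingHom.mem_ker, brA, RingHom.comp_apply,
        Groth.NodeRing.branch_other, PowerSeries.map_X] at h1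
      have : (Ideal.span {π}).IsPrime := (Ideal.span_singleton_prime hπ.ne_zero).2 hπ
      have : IsDomain (R ⧸ Ideal.span {π}) := Ideal.Quotient.isDomain _
      exact PowerSeries.X_ne_zero h1
    rcases ho with rfl | rfl <;> rcases ho' with rfl | rfl
    · rfl
    · exact absurd h (this 0)
    · exact absurd h (this 1)
    · rfl
  · simp only [gens, if_neg hd, Set.mem_singleton_iff] at ho ho'
    rw [ho, ho']

theorem cA_mem (o : Option (Fin 2)) : cA r π ∈ primeA r π o := by
  cases o
  · rw [primeA_none]; exact Ideal.subset_span rfl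
  · rw [primeA_some]; exact Ideal.subset_span (by simp)

variable [IsDomain R] (hr0 : r ≠ 0)

include hr0

omit hπ in
theorem cA_ne_zero {a : R} (ha : a ≠ 0) : cA r a ≠ 0 := by
  intro h
  have h' : MvPowerSeries.C a ∈ Ideal.span {(MvPowerSeries.X 0 * MvPowerSeries.X 1 - MvPowerSeries.C r : MvPowerSeries (Fin 2) R)} :=
    Ideal.Quotient.eq_zero_iff_mem.1 h
  have h2 := mem_span_of_coe_mem (t := r) hr (f := MvPolynomial.C a) (by rwa [MvPolynomial.coe_C])
  obtain ⟨c, hc⟩ := Ideal.mem_span_singleton.1 h2
  have h3 := congrArg (MvPolynomial.eval₂ (algebraMap R (FractionRing R))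
    ![(1 : FractionRing R), algebraMap R (FractionRing R) r]) hc
  simp at h3
  exact ha h3

theorem height_primeA {o : Option (Fin 2)} (ho : o ∈ gens r π) : (primeA r π o).height = 1 := by
  have hP := isPrime_primeA r π hr hπ ho
  have := isDomain_nodeRing hr hr0
  refine le_antisymm ?_ ?_
  · refine Ideal.height_le_one_of_isPrincipal_of_mem_minimalPrimes (Ideal.span {cA r π}) _
      ⟨⟨hP, Ideal.span_le.2 (Set.singleton_subset_iff.2 (cA_mem r π hr hπ o))⟩, ?_⟩
    rintro Q ⟨hQ, hQπ⟩ hle
    obtain ⟨o', ho', hle'⟩ := exists_primeA_le r π (Q := Q) (hQπ (Ideal.subset_span rfl))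
    rwa [eq_of_le r π hr hπ ho ho' (hle'.trans hle)] at hle'
  · rw [Order.one_le_iff_ne_zero]
    intro h0
    rw [Ideal.height_eq_zero_iff] at h0
    have hbot : primeA r π o = ⊥ := by
      rw [IsDomain.minimalPrimes_eq_singleton_bot] at h0
      exact h0
    have := cA_mem r π hr hπ o
    rw [hbot, Ideal.mem_bot] at this
    exact cA_ne_zero r hr hr0 hπ.ne_zero this

end

end Groth.NodeFibral
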